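import Cfsg.Agent.Lib.RecogThree.J1Orders
import Cfsg.Agent.Lib.SporMatrix.J1
import Cfsg.Agent.Lib.PSL11.Icosahedral
import Cfsg.Agent.Lib.J1Cent.Data

/-!
An involution of the Janko group `J1` has centraliser `Z₂ × A5`: an explicit copy of `Z₂ × A5` centralises
it, and the involution has at least `1463 = 175560 / 120` conjugates.
-/

set_option autoImplicit false

namespace Cfsg.Agent.Lib.J1Cent

open Cfsg.Agent.Lib.RecogThree.PackedMat Cfsg.Agent.Lib.RecogThree.J1Data
open Cfsg.Agent.Lib.RecogThree.J1Orders
open Cfsg.Agent.Lib.PSL11 (a0 b0 closure_eq_top card_A5)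

local notation "M7" => Matrix (Fin 7) (Fin 7) (ZMod 11)
local notation "A5" => alternatingGroup (Fin 5)
local notation "J" => (Cfsg.Spor.J1 : Subgroup (GL (Fin 7) (ZMod 11)))

/-- the generator X or Y -/
def gen : Bool → J
  | false => ⟨Cfsg.Spor.jankoX, Subgroup.subset_closure (Set.mem_insert _ _)⟩
  | true => ⟨Cfsg.Spor.jankoY, Subgroup.subset_closure (Set.mem_insert_of_mem _ rfl)⟩

/-- the value of a word -/
def evJ (w : List Bool) : J := (w.map gen).prod

/-- the matrix of an element -/
def mat (g : J) : M7 := ((g : GL (Fin 7) (ZMod 11)) : M7)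

theorem mat_mul (g h : J) : mat (g * h) = mat g * mat h := by
  simp [mat]

theorem mat_one : mat 1 = 1 := by simp [mat]

theorem mat_injective : Function.Injective mat := fun _ _ h => Subtype.ext (Units.ext h)

/-- the code of a generator -/
def genC : Bool → ℕ
  | false => matX
  | true => matY

theorem genC_spec : ∀ s, Good (genC s) ∧ val (genC s) = mat (gen s)
  | false => ⟨gens_facts.1, val_X⟩
  | true => ⟨gens_facts.2.1, val_Y⟩

theorem evalG_spec : ∀ w : List Bool, Good (evalG w) ∧ val (evalG w) = mat (evJ w)
  | [] => ⟨gens_facts.2.2.1, by rw [evJ, List.map_nil, List.prod_nil, mat_one]; exact val_I⟩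
  | s :: w => by
    have h := evalG_spec w
    have hg := genC_spec s
    have e : evalG (s :: w) = mul (genC s) (evalG w) := by cases s <;> rfl
    refine ⟨e ▸ good_mul hg.1 h.1, ?_⟩
    rw [e, val_mul hg.1 h.1, hg.2, h.2, ← mat_mul]
    rfl

/-- two words with the same code are equal in the group -/
theorem evJ_eq {v w : List Bool} (h : Nat.beq (evalG v) (evalG w) = true) : evJ v = evJ w :=
  mat_injective (by rw [← (evalG_spec v).2, Nat.eq_of_beq_eq_true h, (evalG_spec w).2])

theorem evJ_ne {v w : List Bool} (h : Nat.beq (evalG v) (evalG w) = false) : evJ v ≠ evJ w := by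
  intro he
  have hv : evalG v = evalG w :=
    val_inj (evalG_spec v).1 (evalG_spec w).1 (by rw [(evalG_spec v).2, he, (evalG_spec w).2])
  rw [hv] at h
  exact absurd (Nat.beq_refl _) (Bool.not_eq_true _ ▸ h)

theorem evJ_append (v w : List Bool) : evJ (v ++ w) = evJ v * evJ w := by
  simp [evJ, List.map_append, List.prod_append]

theorem evJ_flatMap (u : Bool → List Bool) :
    ∀ w : List Bool, evJ (w.flatMap u) = (w.map fun s => evJ (u s)).prod
  | [] => by simp [evJ]
  | s :: w => by rw [List.flatMap_cons, evJ_append, evJ_flatMap u w, List.map_cons, List.prod_cons]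

/-! ### The subgroup `A5` -/

/-- generators of `A5` -/
def genA : Bool → A5
  | false => a0
  | true => b0

/-- their images -/
def imgW : Bool → List Bool
  | false => Data.wordA
  | true => Data.wordB

/-- the element of index `i` -/
def wordAt (i : ℕ) : List Bool := Data.wordsA5.getD i []

/-- an element of `A5` by a word -/
def evA (w : List Bool) : A5 := (w.map genA).prod

/-- evaluation of a word in `A5` in the centraliser -/
def evI (w : List Bool) : List Bool := w.flatMap imgW

theorem words_nodup : (Data.wordsA5.map evA).Nodup := by decide +kernel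

theorem words_length : Data.wordsA5.length = 60 := by decide +kernel

theorem step_check : (List.range 60).all (fun i =>
    decide (genA false * evA (wordAt i) = evA (wordAt (Data.stepA5.getD i (0, 0)).1)) &&
    decide (genA true * evA (wordAt i) = evA (wordAt (Data.stepA5.getD i (0, 0)).2)) &&
    Nat.beq (evalG (evI (false :: wordAt i))) (evalG (evI (wordAt (Data.stepA5.getD i (0, 0)).1))) &&
    Nat.beq (evalG (evI (true :: wordAt i))) (evalG (evI (wordAt (Data.stepA5.getD i (0, 0)).2)))) =
      true := by
  decide +kernel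

/-- the index of an element -/
noncomputable def phiFun (x : A5) : J :=
  evJ (evI (wordAt ((Data.wordsA5.map evA).idxOf x)))

theorem mem_words (x : A5) : x ∈ Data.wordsA5.map evA := by
  classical
  have h : (Data.wordsA5.map evA).toFinset = Finset.univ := by
    refine Finset.eq_univ_of_card _ ?_
    rw [List.toFinset_card_of_nodup words_nodup, List.length_map, words_length,
      ← Nat.card_eq_fintype_card, card_A5]
  exact List.mem_toFinset.1 (h ▸ Finset.mem_univ x)

theorem idx_lt (x : A5) : (Data.wordsA5.map evA).idxOf x < 60 := by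
  have := List.idxOf_lt_length_iff.2 (mem_words x)
  rwa [List.length_map, words_length] at this

theorem evA_idx (x : A5) : evA (wordAt ((Data.wordsA5.map evA).idxOf x)) = x := by
  have hl := List.idxOf_lt_length_iff.2 (mem_words x)
  have h := List.getElem_idxOf hl
  rw [List.getElem_map] at h
  rw [wordAt, List.getD_eq_getElem _ _ (by simpa using hl)]
  exact h

theorem phiFun_eq {i : ℕ} (hi : i < 60) {x : A5} (h : evA (wordAt i) = x) :
    phiFun x = evJ (evI (wordAt i)) := by
  subst h
  rw [phiFun]
  congr 3
  rw [← words_length] at hi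
  have e : evA (wordAt i) = (Data.wordsA5.map evA)[i]'(by simpa using hi) := by
    rw [List.getElem_map, wordAt, List.getD_eq_getElem _ _ hi]
  rw [e, words_nodup.idxOf_getElem]

theorem step_lt : (List.range 60).all (fun i =>
    Nat.blt (Data.stepA5.getD i (0, 0)).1 60 && Nat.blt (Data.stepA5.getD i (0, 0)).2 60) = true := by
  decide +kernel

theorem phiFun_gen_mul (s : Bool) (x : A5) : phiFun (genA s * x) = evJ (imgW s) * phiFun x := by
  have hi := idx_lt x
  have hc := List.all_eq_true.1 step_check _ (List.mem_range.2 hi)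
  have hlt := List.all_eq_true.1 step_lt _ (List.mem_range.2 hi)
  simp only [Bool.and_eq_true, decide_eq_true_eq, Nat.blt, Nat.ble_eq] at hc hlt
  obtain ⟨⟨⟨h1, h2⟩, h3⟩, h4⟩ := hc
  rw [evA_idx] at h1 h2
  cases s
  · rw [phiFun_eq hlt.1 h1.symm, ← evJ_eq h3, evI, List.flatMap_cons, evJ_append]
    rfl
  · rw [phiFun_eq hlt.2 h2.symm, ← evJ_eq h4, evI, List.flatMap_cons, evJ_append]
    rfl

theorem phiFun_one : phiFun 1 = 1 := by
  rw [phiFun_eq (by norm_num : 0 < 60) (show evA (wordAt 0) = 1 by decide +kernel)]
  exact evJ_eq (w := []) (by decide +kernel)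

theorem phiFun_mul (x y : A5) : phiFun (x * y) = phiFun x * phiFun y := by
  have hx : x ∈ Subgroup.closure ({a0, b0} : Set A5) := closure_eq_top ▸ Subgroup.mem_top x
  induction hx using Subgroup.closure_induction generalizing y with
  | mem z hz =>
    obtain ⟨s, rfl⟩ : ∃ s, genA s = z := by
      rcases hz with rfl | rfl
      · exact ⟨false, rfl⟩
      · exact ⟨true, rfl⟩
    have h1 := phiFun_gen_mul s 1
    rw [mul_one, phiFun_one, mul_one] at h1
    rw [phiFun_gen_mul, h1]
  | one => rw [phiFun_one, one_mul, one_mul]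
  | mul a b _ _ ha hb => rw [mul_assoc, ha, hb, ha b, mul_assoc]
  | inv a _ ha =>
    have h1 := ha a⁻¹
    rw [mul_inv_cancel, phiFun_one] at h1
    have h2 := ha (a⁻¹ * y)
    rw [mul_inv_cancel_left] at h2
    rw [h2, ← mul_assoc, eq_inv_of_mul_eq_one_right h1.symm, inv_mul_cancel, one_mul]

/-- `A5` inside `J1`. -/
noncomputable def phi : A5 →* J := MonoidHom.mk' phiFun phiFun_mul

theorem phi_injective : Function.Injective phi := by
  haveI := alternatingGroup.isSimpleGroup_five
  rw [← MonoidHom.ker_eq_bot_iff]
  refine (IsSimpleGroup.eq_bot_or_eq_top_of_normal phi.ker inferInstance).resolve_right fun h => ?_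
  have h1 : phi a0 = 1 := MonoidHom.mem_ker.1 (h ▸ Subgroup.mem_top a0)
  have h2 : phi a0 = evJ (imgW false) := by
    have := phiFun_gen_mul false 1
    rwa [mul_one, phiFun_one, mul_one] at this
  exact evJ_ne (v := Data.wordA) (w := []) (by decide +kernel) (h2.symm.trans h1)

/-- the involution -/
def t : J := evJ Data.wordT

theorem t_sq : t * t = 1 := by
  rw [t, ← evJ_append]
  exact evJ_eq (w := []) (by decide +kernel)

theorem t_ne_one : t ≠ 1 := evJ_ne (w := []) (by decide +kernel)

theorem orderOf_t : orderOf t = 2 :=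
  orderOf_eq_prime (by rw [pow_two, t_sq]) t_ne_one

theorem commute_phi (x : A5) : Commute t (phi x) := by
  have hx : x ∈ Subgroup.closure ({a0, b0} : Set A5) := closure_eq_top ▸ Subgroup.mem_top x
  have hg : ∀ s, Commute t (phi (genA s)) := by
    intro s
    have h := phiFun_gen_mul s 1
    rw [mul_one, phiFun_one, mul_one] at h
    show t * phiFun (genA s) = phiFun (genA s) * t
    rw [h, t, ← evJ_append, ← evJ_append]
    cases s <;> exact evJ_eq (by decide +kernel)
  induction hx using Subgroup.closure_induction with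
  | mem z hz =>
    rcases hz with rfl | rfl
    · exact hg false
    · exact hg true
  | one => rw [map_one]; exact Commute.one_right t
  | mul a b _ _ ha hb => rw [map_mul]; exact ha.mul_right hb
  | inv a _ ha => rw [map_inv]; exact ha.inv_right

theorem t_not_mem : t ∉ phi.range := by
  rintro ⟨x, hx⟩
  have hc : x ∈ Subgroup.center A5 := Subgroup.mem_center_iff.2 fun y => phi_injective (by
    rw [map_mul, map_mul, hx]
    exact (commute_phi y).eq.symm)
  haveI := alternatingGroup.isSimpleGroup_five
  rcases IsSimpleGroup.eq_bot_or_eq_top_of_normal (Subgroup.center A5) inferInstance with h | h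
  · rw [h, Subgroup.mem_bot] at hc
    rw [hc, map_one] at hx
    exact t_ne_one hx.symm
  · have hne : a0 * b0 ≠ b0 * a0 := by decide +kernel
    exact hne (Subgroup.mem_center_iff.1 (h ▸ Subgroup.mem_top a0) b0).symm

/-- the powers of the involution -/
noncomputable def tau : Multiplicative (ZMod 2) →* J :=
  AddMonoidHom.toMultiplicativeLeft (ZMod.lift 2 ⟨zmultiplesHom (Additive J) (Additive.ofMul t), by
    show (2 : ℤ) • Additive.ofMul t = 0
    rw [two_zsmul, ← ofMul_mul, t_sq, ofMul_one]⟩)

theorem tau_one : tau (Multiplicative.ofAdd (1 : ZMod 2)) = t := by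
  show Additive.toMul (ZMod.lift 2 _ (1 : ZMod 2)) = t
  rw [show (1 : ZMod 2) = ((1 : ℤ) : ZMod 2) by simp, ZMod.lift_coe]
  simp

theorem commute_tau (u : Multiplicative (ZMod 2)) (x : A5) : Commute (tau u) (phi x) := by
  rcases (show ∀ v : Multiplicative (ZMod 2), v = 1 ∨ v = Multiplicative.ofAdd 1 by decide) u with rfl | rfl
  · rw [map_one]; exact Commute.one_left _
  · rw [tau_one]; exact commute_phi x

/-- `Z₂ × A5` inside `J1`. -/
noncomputable def psi : Multiplicative (ZMod 2) × A5 →* J :=
  tau.noncommCoprod phi commute_tau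

theorem psi_injective : Function.Injective psi := by
  rw [injective_iff_map_eq_one]
  rintro ⟨u, x⟩ h
  rw [psi, MonoidHom.noncommCoprod_apply] at h
  rcases (show ∀ v : Multiplicative (ZMod 2), v = 1 ∨ v = Multiplicative.ofAdd 1 by decide) u with rfl | rfl
  · rw [map_one, one_mul] at h
    rw [(injective_iff_map_eq_one phi).1 phi_injective x h]
    rfl
  · rw [tau_one] at h
    exact absurd ⟨x⁻¹, by rw [map_inv]; exact (eq_inv_of_mul_eq_one_left h).symm⟩ t_not_mem

theorem psi_le : psi.range ≤ Subgroup.centralizer ({t} : Set J) := by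
  rintro _ ⟨⟨u, x⟩, rfl⟩
  rw [Subgroup.mem_centralizer_iff]
  rintro _ rfl
  rw [psi, MonoidHom.noncommCoprod_apply]
  refine Commute.mul_right ?_ (commute_phi x)
  rcases (show ∀ v : Multiplicative (ZMod 2), v = 1 ∨ v = Multiplicative.ofAdd 1 by decide) u with rfl | rfl
  · rw [map_one]; exact Commute.one_right _
  · rw [tau_one]; exact Commute.refl _

/-! ### Counting conjugates -/

/-- the code of the inverse of a generator -/
def invC : Bool → ℕ
  | false => evalG (List.replicate 6 false)
  | true => evalG (List.replicate 4 true)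

theorem invC_spec (s : Bool) : Good (invC s) ∧ val (invC s) = mat (gen s)⁻¹ := by
  have h : ∀ (n : ℕ) (s : Bool),
      Nat.beq (evalG (List.replicate (n + 1) s)) (evalG []) = true →
      evJ (List.replicate n s) = (gen s)⁻¹ := by
    intro n s h
    refine eq_inv_of_mul_eq_one_right ?_
    have := evJ_eq h
    simpa [evJ, List.replicate_succ] using this
  cases s
  · exact ⟨(evalG_spec _).1, by rw [← h 6 false (by decide +kernel)]; exact (evalG_spec _).2⟩
  · exact ⟨(evalG_spec _).1, by rw [← h 4 true (by decide +kernel)]; exact (evalG_spec _).2⟩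

/-- the code of a conjugate of the involution by a coded word -/
def conjCode : ℕ → ℕ → ℕ
  | 0, _ => evalG Data.wordT
  | f + 1, n => bif Nat.ble n 1 then evalG Data.wordT else
      bif Nat.beq (n % 2) 0 then mul (mul matX (conjCode f (n / 2))) (invC false)
      else mul (mul matY (conjCode f (n / 2))) (invC true)

theorem conjCode_spec : ∀ f n : ℕ, Good (conjCode f n) ∧
    ∃ g : J, val (conjCode f n) = mat (g * t * g⁻¹)
  | 0, n => ⟨(evalG_spec _).1, 1, by rw [one_mul, inv_one, mul_one]; exact (evalG_spec _).2⟩
  | f + 1, n => by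
    simp only [conjCode]
    obtain ⟨hg, g, he⟩ := conjCode_spec f (n / 2)
    cases Nat.ble n 1
    · cases Nat.beq (n % 2) 0
      · refine ⟨good_mul (good_mul gens_facts.2.1 hg) (invC_spec true).1, gen true * g, ?_⟩
        rw [cond_false, cond_false, val_mul (good_mul gens_facts.2.1 hg) (invC_spec true).1,
          val_mul gens_facts.2.1 hg, he, (invC_spec true).2, show val matY = mat (gen true) from val_Y,
          ← mat_mul, ← mat_mul, mul_inv_rev]
        simp only [mul_assoc]
      · refine ⟨good_mul (good_mul gens_facts.1 hg) (invC_spec false).1, gen false * g, ?_⟩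
        rw [cond_false, cond_true, val_mul (good_mul gens_facts.1 hg) (invC_spec false).1,
          val_mul gens_facts.1 hg, he, (invC_spec false).2, show val matX = mat (gen false) from val_X,
          ← mat_mul, ← mat_mul, mul_inv_rev]
        simp only [mul_assoc]
    · exact ⟨(evalG_spec _).1, 1, by
        rw [one_mul, inv_one, mul_one]; exact (evalG_spec _).2⟩

/-- the list is strictly increasing -/
def increasing : ℕ → List ℕ → Bool
  | _, [] => true
  | lo, a :: l => forceN a fun a => Nat.blt lo a && increasing a l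

theorem increasing_spec : ∀ {l : List ℕ} {lo : ℕ}, increasing lo l = true →
    (∀ a ∈ l, lo < a) ∧ l.Nodup
  | [], _, _ => ⟨fun a ha => absurd ha (List.not_mem_nil), List.nodup_nil⟩
  | b :: l, lo, h => by
    simp only [increasing, forceN_eq, Bool.and_eq_true, Nat.blt, Nat.ble_eq] at h
    obtain ⟨h1, h2⟩ := increasing_spec h.2
    refine ⟨fun a ha => ?_, List.nodup_cons.2 ⟨fun hb => lt_irrefl _ (h1 b hb), h2⟩⟩
    rcases List.mem_cons.1 ha with rfl | ha
    · exact h.1
    · exact lt_trans h.1 (h1 a ha)

theorem conj_check : increasing 0 (Data.conjWords.map (conjCode 14)) = true := by decide +kernel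

theorem conj_length : Data.conjWords.length = 1463 := by decide +kernel

theorem le_index : 1463 ≤ (Subgroup.centralizer ({t} : Set J)).index := by
  classical
  haveI : Finite J := Nat.finite_of_card_ne_zero (by
    rw [Cfsg.Agent.Lib.SporMatrix.J1.card_J1]; norm_num)
  choose hgood g hg using conjCode_spec 14
  let f : Fin 1463 → J ⧸ Subgroup.centralizer ({t} : Set J) := fun i =>
    QuotientGroup.mk (g (Data.conjWords.getD i.1 0))
  have hf : Function.Injective f := by
    intro i j hij
    have hc := QuotientGroup.eq.1 hij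
    rw [Subgroup.mem_centralizer_iff] at hc
    have h1 := hc t rfl
    set a := g (Data.conjWords.getD i.1 0)
    set b := g (Data.conjWords.getD j.1 0)
    have h2 : a * t * a⁻¹ = b * t * b⁻¹ := by
      calc a * t * a⁻¹ = a * (t * (a⁻¹ * b)) * b⁻¹ := by group
        _ = a * (a⁻¹ * b * t) * b⁻¹ := by rw [h1]
        _ = b * t * b⁻¹ := by group
    have h3 : conjCode 14 (Data.conjWords.getD i.1 0) = conjCode 14 (Data.conjWords.getD j.1 0) :=
      val_inj (hgood _) (hgood _) (by rw [hg, hg]; exact congrArg mat h2)
    have hnd := (increasing_spec conj_check).2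
    have hi : i.1 < Data.conjWords.length := by rw [conj_length]; exact i.2
    have hj : j.1 < Data.conjWords.length := by rw [conj_length]; exact j.2
    rw [List.getD_eq_getElem _ _ hi, List.getD_eq_getElem _ _ hj] at h3
    refine Fin.ext ((hnd.getElem_inj_iff (hi := by simpa using hi) (hj := by simpa using hj)).1 ?_)
    simpa using h3
  have := Nat.card_le_card_of_injective f hf
  rwa [Nat.card_fin] at this

theorem centralizer_eq : psi.range = Subgroup.centralizer ({t} : Set J) := by
  haveI : Finite J := Nat.finite_of_card_ne_zero (by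
    rw [Cfsg.Agent.Lib.SporMatrix.J1.card_J1]; norm_num)
  refine Subgroup.eq_of_le_of_card_ge psi_le ?_
  have h := (Subgroup.centralizer ({t} : Set J)).card_mul_index
  rw [Cfsg.Agent.Lib.SporMatrix.J1.card_J1] at h
  have h1 := le_index
  rw [MonoidHom.range_eq_map, Subgroup.card_map_of_injective psi_injective, Subgroup.card_top,
    Nat.card_prod, card_A5, show Nat.card (Multiplicative (ZMod 2)) = 2 by
      rw [Nat.card_eq_fintype_card]; rfl]
  by_contra hlt
  have h2 : 121 * 1463 ≤ Nat.card ↥(Subgroup.centralizer ({t} : Set J)) *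
      (Subgroup.centralizer ({t} : Set J)).index := Nat.mul_le_mul (by omega) h1
  omega

theorem centralizer_iso :
    Nonempty (↥(Subgroup.centralizer ({t} : Set J)) ≃* Multiplicative (ZMod 2) × A5) :=
  ⟨((MonoidHom.ofInjective psi_injective).trans (MulEquiv.subgroupCongr centralizer_eq)).symm⟩

end Cfsg.Agent.Lib.J1Cent
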